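import Groth.Agent.Books.AlgPts
import Mathlib.AlgebraicGeometry.Morphisms.ClosedImmersion

/-!
# Isolated rational points of reduced schemes

`isOpen_pt` : a rational point with an open neighbourhood containing only finitely many rational points is open.
`factor` : a morphism to a reduced scheme whose image is an open rational point is constant.
-/

set_option autoImplicit false
universe u
open CategoryTheory CategoryTheory.Limits AlgebraicGeometry Opposite
open MonoidalCategory CartesianMonoidalCategory MonObj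

namespace K78.IsoPt

open Groth.Agent.Books.AlgPts

variable {k : Type u} [Field k] [IsAlgClosed k]

theorem isOpen_pt {K : Over (Spec (CommRingCat.of k))} [LocallyOfFiniteType K.hom]
    (e : 𝟙_ (Over (Spec (CommRingCat.of k))) ⟶ K) (W : Set K.left) (hW : IsOpen W) (he : pt e ∈ W)
    (hfin : Set.Finite {x : 𝟙_ (Over (Spec (CommRingCat.of k))) ⟶ K | pt x ∈ W}) :
    IsOpen ({pt e} : Set K.left) := by
  let C : Set K.left := ⋃ x ∈ ({x : 𝟙_ (Over (Spec (CommRingCat.of k))) ⟶ K | pt x ∈ W} \ {e}), {pt x}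
  have hC : IsClosed C := (hfin.subset Set.sdiff_subset).isClosed_biUnion (fun x _ => isClosed_pt x)
  have h1 : W \ C = {pt e} := by
    ext z
    constructor
    · rintro ⟨hz, hz'⟩
      by_contra hne
      have h2 : IsOpen ((W \ C) \ {pt e}) := (hW.sdiff hC).sdiff (isClosed_pt e)
      obtain ⟨x, hx, hx'⟩ := exists_pt_mem (X := K) (U := (W \ C) \ {pt e}) ⟨z, ⟨hz, hz'⟩, hne⟩ h2.isLocallyClosed
      refine hx.2 ?_
      refine Set.mem_biUnion (x := x) ⟨hx.1, ?_⟩ rfl
      rintro rfl
      exact hx' rfl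
    · rintro rfl
      refine ⟨he, ?_⟩
      intro h
      obtain ⟨x, hx, hx'⟩ := Set.mem_iUnion₂.1 h
      exact hx.2 (pt_injective hx').symm
  rw [← h1]
  exact hW.sdiff hC

theorem factor {K : Over (Spec (CommRingCat.of k))} [LocallyOfFiniteType K.hom] [IsReduced K.left]
    (e : 𝟙_ (Over (Spec (CommRingCat.of k))) ⟶ K) (h : IsOpen ({pt e} : Set K.left))
    {T : Over (Spec (CommRingCat.of k))} (v : T ⟶ K) (hv : ∀ t : T.left, v.left t = pt e) :
    v = toUnit T ≫ e := by
  let V : K.left.Opens := ⟨{pt e}, h⟩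
  have hrV : Set.range V.ι = {pt e} := by
    rw [Scheme.Opens.range_ι]; rfl
  have he : Set.range e.left ⊆ Set.range V.ι := by
    rw [hrV]
    rintro _ ⟨y, rfl⟩
    have : y = IsLocalRing.closedPoint k := Subsingleton.elim (α := PrimeSpectrum k) _ _
    rw [this]
    rfl
  let l : (𝟙_ (Over (Spec (CommRingCat.of k)))).left ⟶ (V : Scheme.{u}) := IsOpenImmersion.lift V.ι e.left he
  have hl : l ≫ V.ι = e.left := IsOpenImmersion.lift_fac _ _ _
  have hl2 : l ≫ (V.ι ≫ K.hom) = 𝟙 _ := by
    rw [← Category.assoc, hl]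
    exact Over.w e
  have h1 : IsClosedImmersion l := isClosedImmersion_of_comp_eq_id (V.ι ≫ K.hom) l hl2
  have h2 : Surjective l := by
    constructor
    intro y
    refine ⟨IsLocalRing.closedPoint k, ?_⟩
    apply V.ι.isOpenEmbedding.injective
    have h3 : V.ι y = pt e := by
      have : V.ι y ∈ Set.range V.ι := ⟨y, rfl⟩
      rw [hrV] at this
      exact this
    rw [h3]
    change (l ≫ V.ι) _ = _
    rw [hl]
    rfl
  have h3 : IsReduced (V : Scheme.{u}) := isReduced_of_isOpenImmersion V.ι
  have h4 : IsIso l := isIso_of_isClosedImmersion_of_surjective l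
  have hv' : Set.range v.left ⊆ Set.range V.ι := by
    rw [hrV]
    rintro _ ⟨y, rfl⟩
    exact hv y
  let w : T.left ⟶ (V : Scheme.{u}) := IsOpenImmersion.lift V.ι v.left hv'
  have hw : w ≫ V.ι = v.left := IsOpenImmersion.lift_fac _ _ _
  ext1
  have h5 : w ≫ inv l = T.hom := by
    have h6 : (w ≫ inv l) ≫ l ≫ (V.ι ≫ K.hom) = T.hom := by
      rw [Category.assoc, IsIso.inv_hom_id_assoc, ← Category.assoc, hw]
      exact Over.w v
    rw [hl2, Category.comp_id] at h6
    exact h6
  rw [Over.comp_left, ← hl, ← hw]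
  have h7 : (toUnit T).left = T.hom := by simp
  rw [h7, ← h5, Category.assoc, IsIso.inv_hom_id_assoc]

end K78.IsoPt
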