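import Groth.Agent.Surf.K78.ClassE
import Groth.Agent.Surf.K78.IsoPt
import Groth.Agent.Biell.K856.PicA2
import Groth.Agent.Sga3B.KerGrp
import Groth.Agent.Sga3B.Pts
import Groth.Agent.Sga3C.LocConn
import Groth.Agent.S0353
import Groth.Agent.CohqB.AmpGeneric

/-!
# `H¹(X, I_F) = 0` if `Pic⁰ X → Pic F` has finite kernel (characteristic zero)
-/

set_option autoImplicit false
set_option linter.unusedSectionVars false
universe u
open CategoryTheory CategoryTheory.Limits AlgebraicGeometry Opposite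
open MonoidalCategory CartesianMonoidalCategory MonObj

namespace K78.HOne

open Groth.Agent
open Groth.Agent.Grpsch.PicGrp Groth.Agent.Fga.RigGrp K856.PicA
open Groth.Agent.Books.AlgPts Groth.Agent.Books.AlgPtsIrred Groth.Agent.Books.AlgPtsGrp Groth.Agent.Books.AlgPtsSmooth
open Groth.Agent.Pic13.H138.Slice Groth.Agent.Sga3B K78.Dual K78.ClassE K78.IdealE

variable {k : Type u} [Field k] [IsAlgClosed k]

section Res

variable {X F : Scheme.{u}} [X.Over (Spec (CommRingCat.of k))] [F.Over (Spec (CommRingCat.of k))] (i : F ⟶ X) (hi : i ≫ (X ↘ (Spec (CommRingCat.of k))) = F ↘ (Spec (CommRingCat.of k)))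
  (D : PZ k X) (DF : PZ k F)

/-- `F_T ⟶ X_T` -/
noncomputable def bcT (T : Over (Spec (CommRingCat.of k))) : PicF.XT (F ↘ (Spec (CommRingCat.of k))) T ⟶ PicF.XT (X ↘ (Spec (CommRingCat.of k))) T :=
  pullback.map _ _ _ _ i (𝟙 _) (𝟙 _) (by rw [Category.comp_id, hi]) (by simp)

theorem bcT_fst (T : Over (Spec (CommRingCat.of k))) : bcT i hi T ≫ pullback.fst _ _ = pullback.fst _ _ ≫ i := pullback.lift_fst _ _ _

theorem bcT_snd (T : Over (Spec (CommRingCat.of k))) : bcT i hi T ≫ pullback.snd _ _ = pullback.snd _ _ :=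
  (pullback.lift_snd _ _ _).trans (Category.comp_id _)

theorem bcT_proj (T : Over (Spec (CommRingCat.of k))) :
    bcT i hi T ≫ PicF.XTproj (X ↘ (Spec (CommRingCat.of k))) T = PicF.XTproj (F ↘ (Spec (CommRingCat.of k))) T :=
  bcT_snd i hi T

theorem XTmap_bcT {T T' : Over (Spec (CommRingCat.of k))} (g : T' ⟶ T) :
    PicF.XTmap (F ↘ (Spec (CommRingCat.of k))) g ≫ bcT i hi T =
      bcT i hi T' ≫ PicF.XTmap (X ↘ (Spec (CommRingCat.of k))) g := by
  apply pullback.hom_ext
  · rw [Category.assoc, bcT_fst, ← Category.assoc, XTmap_fst, Category.assoc, XTmap_fst, bcT_fst]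
  · change (PicF.XTmap (F ↘ (Spec (CommRingCat.of k))) g ≫ bcT i hi T) ≫
        PicF.XTproj (X ↘ (Spec (CommRingCat.of k))) T =
      (bcT i hi T' ≫ PicF.XTmap (X ↘ (Spec (CommRingCat.of k))) g) ≫ PicF.XTproj (X ↘ (Spec (CommRingCat.of k))) T
    rw [Category.assoc, bcT_proj, XTmap_XTproj, Category.assoc, XTmap_XTproj, ← Category.assoc, bcT_proj]

theorem pull_one (T : Over (Spec (CommRingCat.of k))) : pull (PicF.XTmap (X ↘ (Spec (CommRingCat.of k))) (1 : T ⟶ D.P)) D.ξ = 1 := by
  have h := D.mul T 1 1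
  rw [_root_.mul_one] at h
  exact left_eq_mul.1 h

/-- Restriction of classes to `F`. -/
noncomputable def rho : D.P ⟶ DF.P :=
  DF.univ.hom (norm (F ↘ (Spec (CommRingCat.of k))) DF.σ DF.hσ D.P (pull (bcT i hi D.P) D.ξ)) (norm_mem _ _ _ _ _)

theorem pull_rho {T : Over (Spec (CommRingCat.of k))} (v : T ⟶ D.P) : pull (PicF.XTmap (F ↘ (Spec (CommRingCat.of k))) (v ≫ rho i hi D DF)) DF.ξ =
    norm (F ↘ (Spec (CommRingCat.of k))) DF.σ DF.hσ T (pull (bcT i hi T) (pull (PicF.XTmap (X ↘ (Spec (CommRingCat.of k))) v) D.ξ)) := by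
  rw [XTmap_comp, pull_comp, rho, DF.univ.pull_hom, pull_norm, ← pull_comp, XTmap_bcT, pull_comp]

instance isMonHom_rho : IsMonHom (rho i hi D DF) := by
  apply Pts.isMonHom_of_points
  intro T a b
  apply DF.univ.hom_ext
  rw [pull_rho, D.mul, map_mul, map_mul, DF.mul, pull_rho, pull_rho]

theorem j_bcT : PZ.j k F ≫ bcT i hi (𝟙_ (Over (Spec (CommRingCat.of k)))) = i ≫ PZ.j k X := by
  apply pullback.hom_ext
  · rw [Category.assoc, bcT_fst, Category.assoc]
    erw [sliceAt_fst, sliceAt_fst_assoc]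
    rw [Category.comp_id]
  · rw [Category.assoc, bcT_snd, Category.assoc]
    erw [sliceAt_snd, sliceAt_snd]
    rw [Category.comp_id, Category.comp_id, hi]

theorem θP_rho (a : 𝟙_ (Over (Spec (CommRingCat.of k))) ⟶ D.P) : DF.θP (a ≫ rho i hi D DF) = pull i (D.θP a) := by
  change pull (PZ.j k F) (pull (PicF.XTmap (F ↘ (Spec (CommRingCat.of k))) (a ≫ rho i hi D DF)) DF.ξ) =
    pull i (pull (PZ.j k X) (pull (PicF.XTmap (X ↘ (Spec (CommRingCat.of k))) a) D.ξ))
  rw [pull_rho, norm_of_mem _ _ _ (DF.mem_Rg_unit _), ← pull_comp (PZ.j k F), j_bcT, pull_comp]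

/-- The kernel of the restriction map. -/
noncomputable abbrev Ker : Over (Spec (CommRingCat.of k)) := KerGrp.kerObj (rho i hi D DF)

noncomputable abbrev kι : Ker i hi D DF ⟶ D.P := KerGrp.kerι (rho i hi D DF)

/-- Finitely many points of the kernel in the identity component: the identity is an open point. -/
theorem isOpen_one [GrpObj (Ker i hi D DF)] [IsMonHom (kι i hi D DF)] [LocallyOfFiniteType (Ker i hi D DF).hom]
    (hfin : Set.Finite {a : 𝟙_ (Over (Spec (CommRingCat.of k))) ⟶ D.A | pull i (D.θ a) = 1}) :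
    IsOpen ({pt η[Ker i hi D DF]} : Set (Ker i hi D DF).left) := by
  classical
  have hnoe : IsLocallyNoetherian D.P.left := LocallyOfFiniteType.isLocallyNoetherian D.P.hom
  have hlc : LocallyConnectedSpace D.P.left := Sga3C.LocConn.locallyConnectedSpace_of_isLocallyNoetherian _
  have hη : η[Ker i hi D DF] ≫ kι i hi D DF = η[D.P] := IsMonHom.one_hom _
  refine IsoPt.isOpen_pt η[Ker i hi D DF] ((kι i hi D DF).left ⁻¹' connectedComponent (pt η[D.P]))
    (isOpen_connectedComponent.preimage (kι i hi D DF).left.continuous) ?_ ?_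
  · rw [Set.mem_preimage, ← pt_comp, hη]
    exact mem_connectedComponent
  · have key : ∀ x : 𝟙_ (Over (Spec (CommRingCat.of k))) ⟶ Ker i hi D DF,
        pt x ∈ (kι i hi D DF).left ⁻¹' connectedComponent (pt η[D.P]) →
        ∃ a : 𝟙_ (Over (Spec (CommRingCat.of k))) ⟶ D.A, a ≫ D.inc = x ≫ kι i hi D DF := by
      intro x hx
      apply exists_comp_eq_of_pt_mem_range
      rw [D.range, pt_comp]
      exact hx
    choose! f hf using key
    refine Set.Finite.of_injOn (f := f) ?_ ?_ hfin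
    · intro x hx
      change pull i (D.θ (f x)) = 1
      rw [PZ.θ_apply, hf x hx, ← θP_rho i hi D DF, Category.assoc, KerGrp.kerι_comp, MonObj.comp_one, map_one]
    · intro x hx y hy hxy
      rw [← cancel_mono (kι i hi D DF), ← hf x hx, ← hf y hy, hxy]

end Res

/-- The dual numbers over the base. -/
noncomputable abbrev TE (k : Type u) [Field k] : Over (Spec (CommRingCat.of k)) := Over.mk (dualSpec k)

/-- The closed point of `Spec k[ε]`. -/
noncomputable abbrev t0 (k : Type u) [Field k] : 𝟙_ (Over (Spec (CommRingCat.of k))) ⟶ TE k :=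
  Over.homMk (ptSpec k) (ptSpec_dualSpec k)

theorem left_eq (k : Type u) [Field k] (t : (TE k).left) : t = pt (t0 k) := by
  obtain ⟨y, rfl⟩ := (ptSpec k).surjective t
  have : y = IsLocalRing.closedPoint k := Subsingleton.elim (α := PrimeSpectrum k) _ _
  rw [this]
  rfl

/-- A class on `X[ε]` which is trivial on `X` and on `F[ε]` is trivial. -/
theorem eq_one [CharZero k] {X F : Scheme.{u}} [X.Over (Spec (CommRingCat.of k))]
    [F.Over (Spec (CommRingCat.of k))] (i : F ⟶ X)
    (hi : i ≫ (X ↘ (Spec (CommRingCat.of k))) = F ↘ (Spec (CommRingCat.of k)))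
    (D : PZ k X) (DF : PZ k F)
    (hfin : Set.Finite {a : 𝟙_ (Over (Spec (CommRingCat.of k))) ⟶ D.A | pull i (D.θ a) = 1})
    (c : Pic (PicF.XT (X ↘ Spec (CommRingCat.of k)) (TE k)))
    (hc2 : pull (Pic13.sliceAt k X (TE k).hom (t0 k).left (Over.w (t0 k))) c = 1)
    (hc3 : pull (bcT i hi (TE k)) c = 1) : c = 1 := by
  have hcR : c ∈ Rg (X ↘ Spec (CommRingCat.of k)) D.σ D.hσ (TE k) := by
    rw [mem_Rg]
    exact pic_spec_local (DualNumber k) _
  obtain ⟨v, hv⟩ : ∃ v : TE k ⟶ D.P, pull (PicF.XTmap (X ↘ Spec (CommRingCat.of k)) v) D.ξ = c :=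
    ⟨D.univ.hom c hcR, D.univ.pull_hom c hcR⟩
  have h3 : v ≫ rho i hi D DF = 1 := by
    apply DF.univ.hom_ext
    rw [pull_rho, hv, pull_one, hc3, map_one]
  obtain ⟨w, hw⟩ := KerGrp.exists_lift (rho i hi D DF) v h3
  obtain ⟨hG, hM⟩ := KerGrp.exists_grpObj (rho i hi D DF)
  have hsep : IsSeparated DF.P.hom := IsUniv.isSeparated k DF.univ
  have hlft : LocallyOfFiniteType (Ker i hi D DF).hom := by
    rw [← Over.w (kι i hi D DF)]; infer_instance
  have hsm : Smooth (Ker i hi D DF).hom := S0353.result k _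
  have hred : IsReduced (Ker i hi D DF).left := isReduced_of_smooth _
  have hη : η[Ker i hi D DF] ≫ kι i hi D DF = η[D.P] := IsMonHom.one_hom _
  have hop := isOpen_one i hi D DF hfin
  have h5 : t0 k ≫ w = η[Ker i hi D DF] := by
    rw [← cancel_mono (kι i hi D DF), Category.assoc, hw, hη, one_eq_one]
    apply D.θP_injective
    rw [map_one]
    change pull (PZ.j k X) (pull (PicF.XTmap (X ↘ Spec (CommRingCat.of k)) (t0 k ≫ v)) D.ξ) = 1
    rw [XTmap_comp, pull_comp, hv, ← pull_comp (PZ.j k X), PZ.j_XTmap]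
    exact hc2
  have h6 : w = toUnit (TE k) ≫ η[Ker i hi D DF] := by
    refine IsoPt.factor _ hop w (fun t => ?_)
    rw [left_eq k t, ← pt_comp, h5]
  have h7 : v = 1 := by
    rw [← hw, h6, Category.assoc, hη]
    rfl
  rw [← hv, h7, pull_one]

/-- General form. -/
theorem subsingleton_HH [CharZero k] {X : Scheme.{u}} [X.Over (Spec (CommRingCat.of k))]
    [IsIntegral X] [IsProper (X ↘ Spec (CommRingCat.of k))] (I : X.IdealSheafData)
    [I.subscheme.Over (Spec (CommRingCat.of k))] [IsIntegral I.subscheme]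
    [IsProper (I.subscheme ↘ Spec (CommRingCat.of k))]
    (hi : I.subschemeι ≫ (X ↘ (Spec (CommRingCat.of k))) = I.subscheme ↘ (Spec (CommRingCat.of k)))
    (D : PZ k X) (DF : PZ k I.subscheme)
    (hfin : Set.Finite {a : 𝟙_ (Over (Spec (CommRingCat.of k))) ⟶ D.A | pull I.subschemeι (D.θ a) = 1}) :
    Subsingleton (Coh.HH X (ClSub.idealMod I) 1) := by
  by_contra hne
  have h1 : Function.Surjective ((X ↘ Spec (CommRingCat.of k)).app ⊤) :=
    (Picfga.H0.bijective_appTop (X ↘ Spec (CommRingCat.of k)) D.σ D.hσ).2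
  have h2 : Function.Surjective ((pd k (I.subschemeι ≫ (X ↘ Spec (CommRingCat.of k)))).app ⊤) := by
    rw [hi]
    have := Picfga.H0.isIso_app_of_section (I.subscheme ↘ Spec (CommRingCat.of k)) DF.σ DF.hσ (TE k) ⊤
    exact ((ConcreteCategory.isIso_iff_bijective _).1 this).2
  obtain ⟨c, hc1, hc2, hc3⟩ := exists_class k (X ↘ Spec (CommRingCat.of k)) I h1 h2 hne
  refine hc1 (eq_one I.subschemeι hi D DF hfin c hc2 ?_)
  let e : PicF.XT (I.subscheme ↘ Spec (CommRingCat.of k)) (TE k) ⟶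
      XE k (I.subschemeι ≫ (X ↘ Spec (CommRingCat.of k))) :=
    pullback.map _ _ _ _ (𝟙 _) (𝟙 _) (𝟙 _) (by rw [Category.comp_id, Category.id_comp, hi]) (by simp)
  have he : bcT I.subschemeι hi (TE k) = e ≫ bc k (X ↘ Spec (CommRingCat.of k)) I.subschemeι := by
    apply pullback.hom_ext
    · rw [bcT_fst, Category.assoc]
      have h3 := bc_pr k (X ↘ Spec (CommRingCat.of k)) I.subschemeι
      have h4 : e ≫ pr k (I.subschemeι ≫ (X ↘ Spec (CommRingCat.of k))) = pullback.fst _ _ :=
        (pullback.lift_fst _ _ _).trans (Category.comp_id _)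
      change _ = e ≫ (bc k (X ↘ Spec (CommRingCat.of k)) I.subschemeι ≫ pr k (X ↘ Spec (CommRingCat.of k)))
      rw [h3, ← Category.assoc, h4]
    · rw [bcT_snd, Category.assoc]
      have h3 := bc_pd k (X ↘ Spec (CommRingCat.of k)) I.subschemeι
      have h4 : e ≫ pd k (I.subschemeι ≫ (X ↘ Spec (CommRingCat.of k))) = pullback.snd _ _ :=
        (pullback.lift_snd _ _ _).trans (Category.comp_id _)
      change _ = e ≫ (bc k (X ↘ Spec (CommRingCat.of k)) I.subschemeι ≫ pd k (X ↘ Spec (CommRingCat.of k)))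
      rw [h3, h4]
  rw [he, pull_comp, hc3, map_one]

/-- Node H of S15101: in characteristic zero, if only finitely many points of the Picard variety restrict trivially to the
integral closed subscheme `F = V(I)`, then `H¹(X, I) = 0`. -/
theorem hOne (k : Type u) [Field k] [IsAlgClosed k] [CharZero k] (X : Scheme.{u})
    [X.Over (Spec (CommRingCat.of k))] [IsIntegral X] [IsProper (X ↘ Spec (CommRingCat.of k))]
    (hX : ∃ H : X.Modules, CohB1.IsAmple H) (D : K856.PicA.PZ k X) (I : X.IdealSheafData)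
    (hI : IsIntegral I.subscheme)
    (hfin : Set.Finite {a : 𝟙_ (Over (Spec (CommRingCat.of k))) ⟶ D.A |
      Groth.Agent.Grpsch.PicGrp.pull I.subschemeι (D.θ a) = 1}) :
    Subsingleton (Coh.HH X (ClSub.idealMod I) 1) := by
  let inst : I.subscheme.Over (Spec (CommRingCat.of k)) := ⟨I.subschemeι ≫ (X ↘ Spec (CommRingCat.of k))⟩
  have hi : I.subschemeι ≫ (X ↘ Spec (CommRingCat.of k)) = I.subscheme ↘ Spec (CommRingCat.of k) := rfl
  have hpr : IsProper (I.subscheme ↘ Spec (CommRingCat.of k)) := by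
    rw [← hi]; infer_instance
  have hamp : ∃ H : I.subscheme.Modules, CohB1.IsAmple H := by
    obtain ⟨H, hH⟩ := hX
    exact ⟨_, CohqB.AmpCocycle.isAmple_pullback I.subschemeι hH⟩
  obtain ⟨DF⟩ := nonempty_pz k I.subscheme hamp
  exact subsingleton_HH I hi D DF hfin

end K78.HOne
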