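import Groth.Agent.Surf.K78.IdealE
import Groth.Agent.PicGrp.K858.Thick
import Mathlib.RingTheory.DualNumber

/-!
# A non-trivial class on `X[ε]`, trivial on `X` and on `F[ε]`, if `H¹(X, I_F) ≠ 0`
-/

set_option autoImplicit false
universe u
open CategoryTheory CategoryTheory.Limits AlgebraicGeometry Opposite TopologicalSpace

namespace K78.ClassE

open Groth.Agent.Fga.PicTanBasis Groth.Agent.Fga Groth.Agent K78.Dual K78.IdealE
open Groth.Agent.Grpsch.PicGrp K858.Thick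

variable (k : Type u) [Field k] {X : Scheme.{u}} (s : X ⟶ Spec (CommRingCat.of k)) (I : X.IdealSheafData)

theorem exists_aff {A : Type u} [CommRing A] {Y : Scheme.{u}} (q : Y ⟶ Spec (CommRingCat.of A))
    (h : Function.Surjective (q.app ⊤)) (t : Γ(Y, ⊤)) : ∃ a : A, t = aff q ⊤ a := by
  obtain ⟨b, rfl⟩ := h t
  refine ⟨(Scheme.ΓSpecIso (CommRingCat.of A)).hom b, ?_⟩
  change _ = (q.appLE ⊤ ⊤ le_top) ((Scheme.ΓSpecIso (CommRingCat.of A)).inv ((Scheme.ΓSpecIso (CommRingCat.of A)).hom b))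
  have h1 : (Scheme.ΓSpecIso (CommRingCat.of A)).inv ((Scheme.ΓSpecIso (CommRingCat.of A)).hom b) = b :=
    congr($((Scheme.ΓSpecIso (CommRingCat.of A)).hom_inv_id) b)
  rw [h1]
  have h2 : q.appLE ⊤ ⊤ le_top = q.app ⊤ := (Scheme.Hom.app_eq_appLE _).symm
  exact congr($(h2.symm) b)

theorem app_aff_top {A : Type u} [CommRing A] {Y Z : Scheme.{u}} (g : Y ⟶ Spec (CommRingCat.of A))
    (h : Z ⟶ Y) (a : A) : (h.app ⊤) (aff g ⊤ a) = aff (h ≫ g) ⊤ a := aff_app g h ⊤ a

theorem fst_zX : ie k (I.subschemeι ≫ s) ≫ zF k s I = I.subschemeι ≫ zX k s I := by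
  rw [← cancel_mono (J k s I).subschemeι, Category.assoc, Category.assoc, zF_ι, zX_ι, ie_bc]

theorem aff_ptSpec {Y : Scheme.{u}} (q : Y ⟶ Spec (CommRingCat.of k)) (V : Y.Opens) (c : DualNumber k) :
    aff (q ≫ ptSpec k) V c = aff q V c.fst := aff_comp_spec _ _ _ _

/-- Global functions on the closed subscheme of `J` come from `k[ε]`. -/
theorem exists_eq_aff [Nonempty I.subscheme]
    (hX : Function.Surjective (s.app ⊤))
    (hF : Function.Surjective ((pd k (I.subschemeι ≫ s)).app ⊤)) (t : Γ((J k s I).subscheme, ⊤)) :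
    ∃ c : DualNumber k, t = aff ((J k s I).subschemeι ≫ pd k s) ⊤ c ∧ (zX k s I).app ⊤ t = aff s ⊤ c.fst := by
  obtain ⟨c0, h0⟩ := exists_aff s hX ((zX k s I).app ⊤ t)
  obtain ⟨c1, h1⟩ := exists_aff _ hF ((zF k s I).app ⊤ t)
  have hU : Nonempty (⊤ : I.subscheme.Opens) := ⟨⟨Classical.arbitrary _, trivial⟩⟩
  have hnt : Nontrivial Γ(I.subscheme, ⊤) := inferInstance
  have e1 : I.subschemeι.app ⊤ ((zX k s I).app ⊤ t) =
      (ie k (I.subschemeι ≫ s)).app ⊤ ((zF k s I).app ⊤ t) := by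
    have h2 := Scheme.Hom.congr_app (fst_zX k s I) ⊤
    rw [Scheme.Hom.comp_app, Scheme.Hom.comp_app] at h2
    have h3 := congr($h2 t)
    refine Eq.trans ?_ h3.symm
    change _ = I.subscheme.presheaf.map (𝟙 _) _
    rw [CategoryTheory.Functor.map_id]
    rfl
  rw [h0, h1] at e1
  have e2 : aff (I.subschemeι ≫ s) ⊤ c0 = aff (I.subschemeι ≫ s) ⊤ c1.fst := by
    rw [← aff_ptSpec, ← ie_pd]
    exact (app_aff_top s I.subschemeι c0).symm.trans (e1.trans (app_aff_top _ _ c1))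
  have hc : c0 = c1.fst := (aff (I.subschemeι ≫ s) (⊤ : I.subscheme.Opens)).injective e2
  refine ⟨c1, ?_, by rw [h0, hc]⟩
  rw [← sub_eq_zero]
  have e3 : (zX k s I).app ⊤ (t - aff ((J k s I).subschemeι ≫ pd k s) ⊤ c1) = 0 := by
    rw [map_sub, sub_eq_zero]
    refine h0.trans ?_
    refine Eq.trans ?_ (app_aff_top ((J k s I).subschemeι ≫ pd k s) (zX k s I) c1).symm
    rw [hc, ← aff_ptSpec, ← ie_pd, ← zX_ι_assoc k s I]
  have e4 : (zF k s I).app ⊤ (t - aff ((J k s I).subschemeι ≫ pd k s) ⊤ c1) = 0 := by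
    rw [map_sub, sub_eq_zero]
    refine h1.trans ?_
    refine Eq.trans ?_ (app_aff_top ((J k s I).subschemeι ≫ pd k s) (zF k s I) c1).symm
    rw [zF_ι_assoc, bc_pd]
  exact eq_zero_of_pull k s I ⊤ _ e3 e4

/-- The units of the closed subscheme of `J` lift. -/
theorem um_range [Nonempty I.subscheme]
    (hX : Function.Surjective (s.app ⊤))
    (hF : Function.Surjective ((pd k (I.subschemeι ≫ s)).app ⊤)) :
    (um (J k s I).subschemeι).range = ⊤ := by
  rw [eq_top_iff]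
  intro v _
  obtain ⟨c, h1, h2⟩ := exists_eq_aff k s I hX hF (v : Γ((J k s I).subscheme, ⊤))
  have hX0 : Nonempty X := ⟨I.subschemeι (Classical.arbitrary _)⟩
  have hU : Nonempty (⊤ : X.Opens) := ⟨⟨Classical.arbitrary _, trivial⟩⟩
  have hnt : Nontrivial Γ(X, ⊤) := inferInstance
  have hu : IsUnit ((zX k s I).app ⊤ (v : Γ((J k s I).subscheme, ⊤))) :=
    v.isUnit.map ((zX k s I).app ⊤).hom
  have hc0 : c.fst ≠ 0 := by
    intro h3
    rw [h2, h3, map_zero] at hu
    exact not_isUnit_zero (M₀ := Γ(X, ⊤)) hu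
  have hc : IsUnit c := by
    rw [TrivSqZeroExt.isUnit_iff_isUnit_fst]
    exact isUnit_iff_ne_zero.2 hc0
  obtain ⟨w, rfl⟩ := hc
  refine ⟨Units.map (aff (pd k s) ⊤).toMonoidHom w, ?_⟩
  apply Units.ext
  rw [h1]
  exact app_aff_top (pd k s) (J k s I).subschemeι (w : DualNumber k)

/-- If `H¹(X, I) ≠ 0` there is a non-trivial class on `X[ε]` which is trivial on `X` and on `F[ε]`. -/
theorem exists_class [Nonempty I.subscheme]
    (hX : Function.Surjective (s.app ⊤))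
    (hF : Function.Surjective ((pd k (I.subschemeι ≫ s)).app ⊤))
    (hne : ¬ Subsingleton (Coh.HH X (ClSub.idealMod I) 1)) :
    ∃ c : Pic (XE k s), c ≠ 1 ∧ pull (ie k s) c = 1 ∧ pull (bc k s I.subschemeι) c = 1 := by
  obtain ⟨e⟩ := nonempty_HH k s I 1
  obtain ⟨ε, δ₀, α, δ₁, -, -, h3, h4, h5, -⟩ := seven (J k s I) (J_sq k s I)
  rw [um_range k s I hX hF] at h3
  have h6 : α.ker = ⊥ := by
    rw [h4, eq_bot_iff]
    rintro _ ⟨x, rfl⟩
    have : x ∈ δ₀.ker := by rw [h3]; trivial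
    exact this
  have h7 : ¬ Subsingleton (Coh.HH (XE k s) (ClSub.idealMod (J k s I)) 1) := by
    intro h
    exact hne e.toEquiv.subsingleton
  rw [not_subsingleton_iff_nontrivial] at h7
  obtain ⟨x, hx⟩ := exists_ne (0 : Coh.HH (XE k s) (ClSub.idealMod (J k s I)) 1)
  refine ⟨α (Multiplicative.ofAdd x), ?_, ?_, ?_⟩
  · intro h
    have h8 : Multiplicative.ofAdd x ∈ α.ker := h
    rw [h6, Subgroup.mem_bot] at h8
    exact hx (Multiplicative.ofAdd.injective h8)
  · have h8 : pull (J k s I).subschemeι (α (Multiplicative.ofAdd x)) = 1 := by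
      have : α (Multiplicative.ofAdd x) ∈ (pull (J k s I).subschemeι).ker := by
        rw [h5]; exact ⟨_, rfl⟩
      exact this
    rw [← zX_ι k s I, pull_comp, h8, map_one]
  · have h8 : pull (J k s I).subschemeι (α (Multiplicative.ofAdd x)) = 1 := by
      have : α (Multiplicative.ofAdd x) ∈ (pull (J k s I).subschemeι).ker := by
        rw [h5]; exact ⟨_, rfl⟩
      exact this
    rw [← zF_ι k s I, pull_comp, h8, map_one]

end K78.ClassE
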