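import Groth.Agent.Fga.DualPushout
import Groth.Agent.Fga.PicTanBasis
import Groth.Agent.Fga.PicTanSheaf
import Groth.Agent.Fga.SqZero
import Groth.Agent.Ega1.ClosedKill

/-!
# Functions on `X ×_k Spec k[ε]`

* `pr : X[ε] ⟶ X`, `ie : X ⟶ X[ε]`, `ep V` the function `ε` on an open `V` of `X[ε]`.
* `bij` : over an affine open `U` of `X` every function on `pr ⁻¹ U` is uniquely `pr^* a + pr^* b * ε`.
* `bc i : F[ε] ⟶ X[ε]` for `i : F ⟶ X`.
-/

set_option autoImplicit false
universe u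
open CategoryTheory CategoryTheory.Limits AlgebraicGeometry Opposite TopologicalSpace

namespace K78.Dual

open Groth.Agent.Fga.PicTanBasis Groth.Agent.Fga

variable (k : Type u) [Field k]

/-- The morphism `Spec k[ε] ⟶ Spec k`. -/
noncomputable abbrev dualSpec : Spec (CommRingCat.of (DualNumber k)) ⟶ Spec (CommRingCat.of k) :=
  Spec.map (CommRingCat.ofHom (algebraMap k (DualNumber k)))

/-- The closed point `Spec k ⟶ Spec k[ε]`. -/
noncomputable abbrev ptSpec : Spec (CommRingCat.of k) ⟶ Spec (CommRingCat.of (DualNumber k)) :=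
  Spec.map (CommRingCat.ofHom ((TrivSqZeroExt.fstHom k k k).toRingHom))

theorem ptSpec_dualSpec : ptSpec k ≫ dualSpec k = 𝟙 _ := by
  rw [ptSpec, dualSpec, ← Spec.map_comp, ← Spec.map_id]
  congr 1

instance : IsClosedImmersion (ptSpec k) :=
  IsClosedImmersion.spec_of_surjective _ (fun x => ⟨TrivSqZeroExt.inl x, rfl⟩)

instance : Surjective (ptSpec k) := by
  rw [surjective_iff]
  change Function.Surjective (PrimeSpectrum.comap (TrivSqZeroExt.fstHom k k k).toRingHom)
  have h : Function.Surjective (TrivSqZeroExt.fstHom k k k).toRingHom := fun x => ⟨TrivSqZeroExt.inl x, rfl⟩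
  rw [← Set.range_eq_univ, range_comap_of_surjective _ _ h, PrimeSpectrum.zeroLocus_eq_univ_iff]
  intro x hx
  have hx' : x.fst = 0 := hx
  refine mem_nilradical.2 ⟨2, ?_⟩
  ext <;> simp [pow_two, hx']

variable {X : Scheme.{u}} (s : X ⟶ Spec (CommRingCat.of k))

/-- `X[ε]` -/
noncomputable abbrev XE : Scheme.{u} := pullback s (dualSpec k)

/-- The projection. -/
noncomputable abbrev pr : XE k s ⟶ X := pullback.fst s (dualSpec k)

/-- The second projection. -/
noncomputable abbrev pd : XE k s ⟶ Spec (CommRingCat.of (DualNumber k)) := pullback.snd s (dualSpec k)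

/-- The closed immersion `ε = 0`. -/
noncomputable def ie : X ⟶ XE k s :=
  pullback.lift (𝟙 X) (s ≫ ptSpec k) (by rw [Category.assoc, ptSpec_dualSpec, Category.comp_id, Category.id_comp])

@[reassoc (attr := simp)]
theorem ie_pr : ie k s ≫ pr k s = 𝟙 X := pullback.lift_fst _ _ _

@[reassoc]
theorem ie_pd : ie k s ≫ pd k s = s ≫ ptSpec k := pullback.lift_snd _ _ _

theorem isPullback_ie : IsPullback (ie k s) s (pd k s) (ptSpec k) := by
  have h : IsPullback (ie k s ≫ pr k s) s s (ptSpec k ≫ dualSpec k) := by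
    rw [ptSpec_dualSpec, ie_pr]
    exact IsPullback.of_horiz_isIso ⟨by simp⟩
  exact IsPullback.of_right h (pullback.lift_snd _ _ _) (IsPullback.of_hasPullback s (dualSpec k))

instance : IsClosedImmersion (ie k s) := MorphismProperty.of_isPullback (isPullback_ie k s).flip inferInstance

instance : Surjective (ie k s) := MorphismProperty.of_isPullback (isPullback_ie k s).flip inferInstance

theorem pr_ie_apply (y : XE k s) : ie k s (pr k s y) = y := by
  obtain ⟨x, rfl⟩ := (ie k s).surjective y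
  rw [← Scheme.Hom.comp_apply (ie k s) (pr k s), ie_pr]
  rfl

/-- The projection is a closed embedding (even a homeomorphism). -/
theorem isClosedEmbedding_pr : Topology.IsClosedEmbedding (pr k s).base := by
  have h1 : Topology.IsClosedEmbedding (ie k s).base := (ie k s).isClosedEmbedding
  let e : X ≃ₜ XE k s := h1.isEmbedding.toHomeomorphOfSurjective (ie k s).surjective
  have h2 : ((pr k s).base : XE k s → X) = e.symm := by
    funext y
    apply e.injective
    rw [e.apply_symm_apply]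
    exact pr_ie_apply k s y
  change Topology.IsClosedEmbedding ((pr k s).base : XE k s → X)
  rw [h2]
  exact e.symm.isClosedEmbedding

/-- Every open is a preimage. -/
theorem eq_preimage (V : (XE k s).Opens) : V = pr k s ⁻¹ᵁ (ie k s ⁻¹ᵁ V) := by
  ext y
  change y ∈ V ↔ ie k s (pr k s y) ∈ V
  rw [pr_ie_apply]

/-- Every affine open is the preimage of an affine open. -/
theorem exists_affine {V : (XE k s).Opens} (hV : IsAffineOpen V) :
    ∃ U : X.Opens, IsAffineOpen U ∧ V = pr k s ⁻¹ᵁ U :=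
  ⟨ie k s ⁻¹ᵁ V, hV.preimage (ie k s), eq_preimage k s V⟩

/-- The function `ε`. -/
noncomputable def ep (V : (XE k s).Opens) : Γ(XE k s, V) := aff (pd k s) V DualNumber.eps

theorem ep_res {V W : (XE k s).Opens} (h : W ≤ V) :
    (XE k s).presheaf.map (homOfLE h).op (ep k s V) = ep k s W := aff_res _ h _

theorem ep_sq (V : (XE k s).Opens) : ep k s V * ep k s V = 0 := by
  rw [ep, ← map_mul, DualNumber.eps_mul_eps, map_zero]

theorem ie_ep (V : (XE k s).Opens) : (ie k s).app V (ep k s V) = 0 := by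
  rw [ep, aff_app, ie_pd, aff_comp_spec]
  have : (TrivSqZeroExt.fstHom k k k).toRingHom (DualNumber.eps : DualNumber k) = 0 := by
    change (DualNumber.eps : DualNumber k).fst = 0
    simp
  rw [this, map_zero]

theorem ie_pr_app (U : X.Opens) (a : Γ(X, U)) : (ie k s).appLE (pr k s ⁻¹ᵁ U) U (by
    rw [← Scheme.Hom.comp_preimage, ie_pr]; exact le_rfl) ((pr k s).app U a) = a := by
  have h1 : (pr k s).app U ≫ (ie k s).appLE (pr k s ⁻¹ᵁ U) U (by
      rw [← Scheme.Hom.comp_preimage, ie_pr]; exact le_rfl) = 𝟙 _ := by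
    rw [Scheme.Hom.app_eq_appLE, Scheme.Hom.appLE_comp_appLE]
    simp only [ie_pr]
    rw [Scheme.Hom.appLE]
    simp only [Scheme.Hom.id_app]
    exact (Category.id_comp _).trans (X.presheaf.map_id _)
  exact congr($h1 a)

/-- Over an affine open of `X`, every function on `X[ε]` is uniquely `a + b ε`. -/
theorem bij {U : X.Opens} (hU : IsAffineOpen U) :
    Function.Bijective (fun x : Γ(X, U) × Γ(X, U) =>
      (pr k s).app U x.1 + (pr k s).app U x.2 * ep k s (pr k s ⁻¹ᵁ U)) :=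
  DualPushout.dual_bijective k _ _ _
    (isPushout_aff (algebraMap k (DualNumber k)) (IsPullback.of_hasPullback s (dualSpec k)) hU)

section BC

variable {F : Scheme.{u}} (i : F ⟶ X)

/-- `F[ε] ⟶ X[ε]` -/
noncomputable def bc : XE k (i ≫ s) ⟶ XE k s :=
  pullback.map _ _ _ _ i (𝟙 _) (𝟙 _) (by rw [Category.comp_id]) (by simp)

@[reassoc]
theorem bc_pr : bc k s i ≫ pr k s = pr k (i ≫ s) ≫ i := pullback.lift_fst _ _ _

@[reassoc]
theorem bc_pd : bc k s i ≫ pd k s = pd k (i ≫ s) := (pullback.lift_snd _ _ _).trans (Category.comp_id _)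

@[reassoc]
theorem ie_bc : ie k (i ≫ s) ≫ bc k s i = i ≫ ie k s := by
  apply pullback.hom_ext
  · change (ie k (i ≫ s) ≫ bc k s i) ≫ pr k s = (i ≫ ie k s) ≫ pr k s
    rw [Category.assoc, bc_pr, ie_pr_assoc, Category.assoc, ie_pr, Category.comp_id]
  · change (ie k (i ≫ s) ≫ bc k s i) ≫ pd k s = (i ≫ ie k s) ≫ pd k s
    rw [Category.assoc, bc_pd, ie_pd, Category.assoc, Category.assoc, ie_pd]

theorem isPullback_bc : IsPullback (bc k s i) (pr k (i ≫ s)) (pr k s) i := by
  have h2 : IsPullback (bc k s i ≫ pd k s) (pr k (i ≫ s)) (dualSpec k) (i ≫ s) := by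
    rw [bc_pd]; exact (IsPullback.of_hasPullback (i ≫ s) (dualSpec k)).flip
  exact IsPullback.of_right h2 (bc_pr k s i) (IsPullback.of_hasPullback s (dualSpec k)).flip

instance [IsClosedImmersion i] : IsClosedImmersion (bc k s i) :=
  MorphismProperty.of_isPullback (isPullback_bc k s i).flip inferInstance

theorem bc_ep (V : (XE k s).Opens) : (bc k s i).app V (ep k s V) = ep k (i ≫ s) (bc k s i ⁻¹ᵁ V) := by
  rw [ep, aff_app, bc_pd]; rfl

theorem bc_pr_app (U : X.Opens) (a : Γ(X, U)) : ∃ h : bc k s i ⁻¹ᵁ (pr k s ⁻¹ᵁ U) ≤ pr k (i ≫ s) ⁻¹ᵁ (i ⁻¹ᵁ U),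
    (bc k s i).app (pr k s ⁻¹ᵁ U) ((pr k s).app U a) =
      (XE k (i ≫ s)).presheaf.map (homOfLE h).op ((pr k (i ≫ s)).app (i ⁻¹ᵁ U) (i.app U a)) := by
  have h0 : bc k s i ⁻¹ᵁ (pr k s ⁻¹ᵁ U) = pr k (i ≫ s) ⁻¹ᵁ (i ⁻¹ᵁ U) := by
    rw [← Scheme.Hom.comp_preimage, bc_pr, Scheme.Hom.comp_preimage]
  refine ⟨h0.le, ?_⟩
  have h2 := Scheme.Hom.congr_app (bc_pr k s i) U
  rw [Scheme.Hom.comp_app, Scheme.Hom.comp_app] at h2
  exact congr($h2 a)

theorem bc_pr_eq_zero (U : X.Opens) (a : Γ(X, U)) (ha : i.app U a = 0) :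
    (bc k s i).app (pr k s ⁻¹ᵁ U) ((pr k s).app U a) = 0 := by
  obtain ⟨h, e⟩ := bc_pr_app k s i U a
  rw [e, ha, map_zero, map_zero]

theorem eq_zero_of_bc {U : X.Opens} (hU : IsAffineOpen (i ⁻¹ᵁ U)) (a : Γ(X, U))
    (ha : (bc k s i).app (pr k s ⁻¹ᵁ U) ((pr k s).app U a * ep k s (pr k s ⁻¹ᵁ U)) = 0) : i.app U a = 0 := by
  obtain ⟨h, e⟩ := bc_pr_app k s i U a
  have h0 : bc k s i ⁻¹ᵁ (pr k s ⁻¹ᵁ U) = pr k (i ≫ s) ⁻¹ᵁ (i ⁻¹ᵁ U) := by
    rw [← Scheme.Hom.comp_preimage, bc_pr, Scheme.Hom.comp_preimage]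
  rw [map_mul, e, bc_ep, ← ep_res k (i ≫ s) h, ← map_mul] at ha
  have h1 : Function.Injective ((XE k (i ≫ s)).presheaf.map (homOfLE h).op) := by
    have : IsIso (homOfLE h) := ⟨homOfLE h0.ge, Subsingleton.elim _ _, Subsingleton.elim _ _⟩
    exact (ConcreteCategory.bijective_of_isIso _).1
  have h2 := (injective_iff_map_eq_zero ((XE k (i ≫ s)).presheaf.map (homOfLE h).op).hom).1 h1 _ ha
  have h3 := (bij k (i ≫ s) hU).1 (a₁ := (0, i.app U a)) (a₂ := (0, 0)) (by
    dsimp only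
    rw [map_zero, zero_add, h2, zero_mul, add_zero])
  exact congrArg Prod.snd h3

end BC

end K78.Dual
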