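import Groth.Agent.Surf.K78.Dual
import Groth.Agent.UnitsSh.K953.Split

/-!
# The ideal `ε I` of `X[ε]`

`J k s I` : the ideal of functions on `X[ε]` vanishing on `X` and on `F[ε]`, `F = V(I)`; it is `ε I`, of square zero, and
`H^n(X[ε], J) = H^n(X, I)`.
-/

set_option autoImplicit false
universe u
open CategoryTheory CategoryTheory.Limits AlgebraicGeometry Opposite TopologicalSpace

namespace K78.IdealE

open Groth.Agent.Fga.PicTanBasis Groth.Agent.Fga Groth.Agent K78.Dual
open Groth.Agent.Fga.PicTanSheaf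

theorem app_zero_of_comp {A B C : Scheme.{u}} {f : A ⟶ B} {g : B ⟶ C} {h : A ⟶ C} (e : f ≫ g = h) (V : C.Opens)
    (a : Γ(C, V)) (ha : g.app V a = 0) : h.app V a = 0 := by
  subst e
  rw [Scheme.Hom.comp_app]
  change f.app _ (g.app V a) = 0
  rw [ha, map_zero]

theorem app_ores {A B : Scheme.{u}} (f : A ⟶ B) {U V : B.Opens} (h : V ≤ U) (a : Γ(B, U)) :
    f.app V (Units.ores h a) = Units.ores (f.preimage_mono h) (f.app U a) :=
  congr($(f.naturality (homOfLE h).op) a)

variable (k : Type u) [Field k] {X : Scheme.{u}} (s : X ⟶ Spec (CommRingCat.of k)) (I : X.IdealSheafData)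

/-- The ideal `ε I`. -/
noncomputable def J : (XE k s).IdealSheafData := (ie k s).ker ⊓ (bc k s I.subschemeι).ker

theorem mem_J (V : (XE k s).affineOpens) (a : Γ(XE k s, V.1)) :
    a ∈ (J k s I).ideal V ↔ (ie k s).app V.1 a = 0 ∧ (bc k s I.subschemeι).app V.1 a = 0 := by
  rw [J, Scheme.IdealSheafData.ideal_inf]
  change a ∈ (ie k s).ker.ideal V ∧ a ∈ (bc k s I.subschemeι).ker.ideal V ↔ _
  rw [Scheme.Hom.ker_apply, Scheme.Hom.ker_apply, RingHom.mem_ker, RingHom.mem_ker]

/-- `X` in the closed subscheme of `J`. -/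
noncomputable def zX : X ⟶ (J k s I).subscheme :=
  IsClosedImmersion.lift (J k s I).subschemeι (ie k s) (by
    rw [Scheme.IdealSheafData.ker_subschemeι]; exact inf_le_left)

@[reassoc (attr := simp)]
theorem zX_ι : zX k s I ≫ (J k s I).subschemeι = ie k s := IsClosedImmersion.lift_fac _ _ _

/-- `F[ε]` in the closed subscheme of `J`. -/
noncomputable def zF : XE k (I.subschemeι ≫ s) ⟶ (J k s I).subscheme :=
  IsClosedImmersion.lift (J k s I).subschemeι (bc k s I.subschemeι) (by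
    rw [Scheme.IdealSheafData.ker_subschemeι]; exact inf_le_right)

@[reassoc (attr := simp)]
theorem zF_ι : zF k s I ≫ (J k s I).subschemeι = bc k s I.subschemeι := IsClosedImmersion.lift_fac _ _ _

theorem app_eq_zero_iff (V : (XE k s).Opens) (a : Γ(XE k s, V)) :
    (J k s I).subschemeι.app V a = 0 ↔ (ie k s).app V a = 0 ∧ (bc k s I.subschemeι).app V a = 0 := by
  constructor
  · intro h
    exact ⟨app_zero_of_comp (zX_ι k s I) V a h, app_zero_of_comp (zF_ι k s I) V a h⟩
  · rintro ⟨h1, h2⟩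
    apply SqZero.eq_of_locally
    intro z hz
    obtain ⟨V', hV', hV'V⟩ := SqZero.exists_affine (X := XE k s) (U := V) (x := (J k s I).subschemeι z) hz
    refine ⟨(J k s I).subschemeι ⁻¹ᵁ V'.1, (J k s I).subschemeι.preimage_mono hV'V, hV', ?_⟩
    rw [map_zero, ← app_ores]
    have h3 : Units.ores hV'V a ∈ (J k s I).ideal V' := by
      rw [mem_J, app_ores, app_ores, h1, h2, map_zero, map_zero]
      exact ⟨rfl, rfl⟩
    rw [← Scheme.IdealSheafData.ker_subschemeι_app, RingHom.mem_ker] at h3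
    exact h3

/-- Functions on the closed subscheme of `J` vanishing on `X` and on `F[ε]` are zero. -/
theorem eq_zero_of_pull (W : (XE k s).Opens) (t : Γ((J k s I).subscheme, (J k s I).subschemeι ⁻¹ᵁ W))
    (h1 : (zX k s I).app _ t = 0) (h2 : (zF k s I).app _ t = 0) : t = 0 := by
  apply SqZero.eq_of_locally
  intro z hz
  obtain ⟨V', hV', hV'V⟩ := SqZero.exists_affine (X := XE k s) (U := W) (x := (J k s I).subschemeι z) hz
  refine ⟨(J k s I).subschemeι ⁻¹ᵁ V'.1, (J k s I).subschemeι.preimage_mono hV'V, hV', ?_⟩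
  obtain ⟨a, ha⟩ := (J k s I).subschemeι_app_surjective V'
    (Units.ores ((J k s I).subschemeι.preimage_mono hV'V) t)
  rw [map_zero, ← ha]
  have h3 : (zX k s I).app _ ((J k s I).subschemeι.app V'.1 a) = 0 := by
    rw [ha, app_ores, h1, map_zero]
  have h4 : (zF k s I).app _ ((J k s I).subschemeι.app V'.1 a) = 0 := by
    rw [ha, app_ores, h2, map_zero]
  refine (app_eq_zero_iff k s I V'.1 a).2 ⟨?_, ?_⟩
  · have h5 : (zX k s I ≫ (J k s I).subschemeι).app V'.1 a = 0 := by
      rw [Scheme.Hom.comp_app]; exact h3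
    exact app_zero_of_comp (f := 𝟙 _) (g := zX k s I ≫ (J k s I).subschemeι) (by simp) _ a h5
  · have h5 : (zF k s I ≫ (J k s I).subschemeι).app V'.1 a = 0 := by
      rw [Scheme.Hom.comp_app]; exact h4
    exact app_zero_of_comp (f := 𝟙 _) (g := zF k s I ≫ (J k s I).subschemeι) (by simp) _ a h5

theorem ie_app_eq_zero {U : X.Opens} (a : Γ(X, U))
    (h : (ie k s).app (pr k s ⁻¹ᵁ U) ((pr k s).app U a) = 0) : a = 0 := by
  have h1 := ie_pr_app k s U a
  rw [Scheme.Hom.appLE] at h1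
  rw [← h1]
  change X.presheaf.map _ ((ie k s).app (pr k s ⁻¹ᵁ U) ((pr k s).app U a)) = 0
  rw [h, map_zero]

/-- Over an affine open of `X` the functions vanishing on `X` are the `b ε`. -/
theorem exists_of_ie {U : X.Opens} (hU : IsAffineOpen U) (a : Γ(XE k s, pr k s ⁻¹ᵁ U))
    (h : (ie k s).app (pr k s ⁻¹ᵁ U) a = 0) :
    ∃ b : Γ(X, U), a = (pr k s).app U b * ep k s (pr k s ⁻¹ᵁ U) := by
  obtain ⟨⟨b0, b1⟩, rfl⟩ := (bij k s hU).2 a
  dsimp only at h ⊢
  rw [map_add, map_mul, ie_ep, mul_zero, add_zero] at h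
  refine ⟨b1, ?_⟩
  rw [ie_app_eq_zero k s b0 h, map_zero, zero_add]

theorem J_sq : (J k s I) ^ 2 = ⊥ := by
  ext V a
  rw [Scheme.IdealSheafData.ideal_pow, Pi.pow_apply, pow_two]
  have key : (J k s I).ideal V * (J k s I).ideal V = ⊥ := by
    rw [eq_bot_iff, Ideal.mul_le]
    intro x hx y hy
    obtain ⟨V, hV⟩ := V
    obtain ⟨U, hU, rfl⟩ := exists_affine k s hV
    obtain ⟨b, rfl⟩ := exists_of_ie k s hU x ((mem_J k s I _ _).1 hx).1
    obtain ⟨c, rfl⟩ := exists_of_ie k s hU y ((mem_J k s I _ _).1 hy).1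
    rw [Ideal.mem_bot]
    have := ep_sq k s (pr k s ⁻¹ᵁ U)
    linear_combination ((pr k s).app U b * (pr k s).app U c) * this
  rw [key]
  rfl

/-! ### The isomorphism `I ≅ ε I` -/

theorem mulEp_mem {U : X.Opens} (b : Γ(X, U)) (hb : I.subschemeι.app U b = 0) :
    (J k s I).subschemeι.app (pr k s ⁻¹ᵁ U) ((pr k s).app U b * ep k s (pr k s ⁻¹ᵁ U)) = 0 := by
  rw [app_eq_zero_iff, map_mul, map_mul, ie_ep, mul_zero, bc_pr_eq_zero k s _ U b hb, zero_mul]
  exact ⟨rfl, rfl⟩

theorem exists_sec {U : X.Opens} (x : Γ(ClSub.idealMod I, U)) :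
    ∃ y : Γ(ClSub.idealMod (J k s I), pr k s ⁻¹ᵁ U), PerfA.IdealModule.val _ y =
      (pr k s).app U (PerfA.IdealModule.val I x) * ep k s (pr k s ⁻¹ᵁ U) :=
  SqZero.exists_val _ _ (mulEp_mem k s I _ (SqZero.app_val I x))

/-- Multiplication by `ε` on sections. -/
noncomputable def phiSec (U : X.Opens) (x : Γ(ClSub.idealMod I, U)) :
    Γ(ClSub.idealMod (J k s I), pr k s ⁻¹ᵁ U) := (exists_sec k s I x).choose

theorem val_phiSec {U : X.Opens} (x : Γ(ClSub.idealMod I, U)) :
    PerfA.IdealModule.val _ (phiSec k s I U x) =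
      (pr k s).app U (PerfA.IdealModule.val I x) * ep k s (pr k s ⁻¹ᵁ U) := (exists_sec k s I x).choose_spec

theorem phiSec_add (U : X.Opens) (x y : Γ(ClSub.idealMod I, U)) :
    phiSec k s I U (x + y) = phiSec k s I U x + phiSec k s I U y := by
  apply PerfA.IdealModule.val_injective
  rw [val_phiSec, SqZero.ival_add, SqZero.ival_add, val_phiSec, val_phiSec, map_add, add_mul]

theorem phiSec_res {U V : X.Opens} (h : V ≤ U) (x : Γ(ClSub.idealMod I, U)) :
    phiSec k s I V (CohqB.QC2.res _ h x) =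
      CohqB.QC2.res _ ((pr k s).preimage_mono h) (phiSec k s I U x) := by
  apply PerfA.IdealModule.val_injective
  rw [val_phiSec, PerfA.IdealModule.val_res, PerfA.IdealModule.val_res, val_phiSec, map_mul]
  refine congrArg₂ (· * ·) ?_ ?_
  · exact app_ores (pr k s) h (PerfA.IdealModule.val I x)
  · exact (ep_res k s ((pr k s).preimage_mono h)).symm

/-- Multiplication by `ε` on sections, additive. -/
noncomputable def phiAdd (U : X.Opens) :
    sec (Coh.toAb (ClSub.idealMod I)) U →+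
      sec ((CohTop.push (pr k s).base).obj (Coh.toAb (ClSub.idealMod (J k s I)))) U :=
  AddMonoidHom.mk' (phiSec k s I U) (phiSec_add k s I U)

/-- Multiplication by `ε`. -/
noncomputable def phi : (Coh.toAb (ClSub.idealMod I) : Sh X) ⟶
    (CohTop.push (pr k s).base).obj (Coh.toAb (ClSub.idealMod (J k s I))) :=
  PicTanSheaf.mk (phiAdd k s I) (fun _ _ h x => phiSec_res k s I h x)

theorem phiAdd_injective {U : X.Opens} (hU : IsAffineOpen U) : Function.Injective (phiSec k s I U) := by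
  intro x y hxy
  have h1 := congrArg (PerfA.IdealModule.val (J k s I)) hxy
  rw [val_phiSec, val_phiSec] at h1
  have h2 := (bij k s hU).1 (a₁ := (0, PerfA.IdealModule.val I x)) (a₂ := (0, PerfA.IdealModule.val I y)) (by
    dsimp only
    rw [h1])
  exact PerfA.IdealModule.val_injective I U (congrArg Prod.snd h2)

theorem phiAdd_surjective {U : X.Opens} (hU : IsAffineOpen U) : Function.Surjective (phiSec k s I U) := by
  intro y
  obtain ⟨h1, h2⟩ := (app_eq_zero_iff k s I _ _).1 (SqZero.app_val (J k s I) y)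
  obtain ⟨b, hb⟩ := exists_of_ie k s hU _ h1
  rw [hb] at h2
  have h3 := eq_zero_of_bc k s I.subschemeι (hU.preimage I.subschemeι) b h2
  obtain ⟨x, rfl⟩ := SqZero.exists_val I b h3
  refine ⟨x, PerfA.IdealModule.val_injective _ _ ?_⟩
  rw [val_phiSec, hb]

instance isIso_phi : IsIso (phi k s I) :=
  isIso_of_affine _ (fun _ hU => ⟨phiAdd_injective k s I hU, phiAdd_surjective k s I hU⟩)

/-- `H^n(X, I) ≅ H^n(X[ε], ε I)` -/
theorem nonempty_HH (n : ℕ) :
    Nonempty (Coh.HH X (ClSub.idealMod I) n ≃+ Coh.HH (XE k s) (ClSub.idealMod (J k s I)) n) := by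
  have h1 := CohtopA.PushClosed.preservesFiniteColimits_push_of_isClosedEmbedding (pr k s).base
    (isClosedEmbedding_pr k s)
  have e3 := CohtopA.PushClosed.HPushEquiv (pr k s).base (Coh.toAb (ClSub.idealMod (J k s I))) n
  obtain ⟨e2⟩ := K953.Split.nonempty_H_equiv (phi k s I) n
  exact ⟨e2.trans e3.symm⟩

end K78.IdealE
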